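import Groth.Agent.H29RR.SectionPair
import Groth.Agent.H29RR.FiniteGen
import Groth.Agent.H29RR.MonoHom
import Groth.Agent.H29CurveDual.Canonical
import Groth.Agent.H29Pairs.Basic
import Groth.Agent.H28RR.Det
import Groth.Agent.H10Coh.MulSections

/-!
# The base point free pencil trick
-/

set_option autoImplicit false
set_option linter.style.haveILetI false
set_option linter.unusedSectionVars false
set_option backward.isDefEq.respectTransparency.types false
universe u

open CategoryTheory CategoryTheory.Limits AlgebraicGeometry Opposite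

namespace Groth.Agent.H29Pencil

open Groth.Agent.H29RR
open Groth.Agent.H11Ample (tm)

attribute [local instance 10000] H10Coh.hasSheafifyAb H10Coh.hasWeakSheafifyAb H10Coh.hasExtAb H10Coh.enoughInjAb

variable {k : Type u} [Field k] {X : Scheme.{u}} [X.Over (Spec (CommRingCat.of k))]

theorem homOfGlobal_app_one (M : X.Modules) (g : Γ(M, ⊤)) :
    (H11Tilde.homOfGlobal M g).app ⊤ (1 : Γ(X, ⊤)) = g :=
  (H11Tilde.homOfGlobal_app M g ⊤ _).trans ((one_smul _ _).trans
    (ConcreteCategory.congr_hom (M.presheaf.map_id (op ⊤)) _))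

theorem app_comp_apply {A B C : X.Modules} (f : A ⟶ B) (g : B ⟶ C) (U : X.Opens) (a : Γ(A, U)) :
    (f ≫ g).app U a = g.app U (f.app U a) := rfl

/-- `1 ⊗ t` vanishes only with `t`. -/
theorem eq_zero_of_tm_one (D : X.Modules) (t : Γ(D, ⊤))
    (h : tm (show Γ(Coh.structureModule X, ⊤) from (1 : Γ(X, ⊤))) t = 0) : t = 0 := by
  have h1 : tm t (show Γ(Coh.structureModule X, ⊤) from (1 : Γ(X, ⊤))) = 0 := by
    rw [← H10Coh.MulSections.comm_tm (Coh.structureModule X) D ⊤ (1 : Γ(X, ⊤)) t, h, map_zero]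
  have h2 := SecTwist.unitorR_tmul D ⊤ t (1 : Γ(X, ⊤))
  erw [one_smul] at h2
  refine h2.symm.trans ?_
  refine (congrArg (((SecTwist.unitorR D).hom.val.app (op ⊤)).hom) h1).trans (map_zero _)

/-- Sections of the middle term of a short exact sequence. -/
theorem h0_le_add {S : ShortComplex X.Modules} (hS : S.ShortExact) (h₂ : Module.Finite k (Coh.HH X S.X₂ 0))
    (h₃ : Module.Finite k (Coh.HH X S.X₃ 0)) :
    Module.finrank k (Coh.HH X S.X₂ 0) ≤
      Module.finrank k (Coh.HH X S.X₁ 0) + Module.finrank k (Coh.HH X S.X₃ 0) := by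
  haveI := hS.mono_f
  have h0 := LinearMap.finrank_range_add_finrank_ker (Canon.HHlin k S.g 0)
  rw [H25Par.hhlin_exact (k := k) hS, LinearMap.finrank_range_of_inj (hhlin_zero_injective (k := k) S.f)] at h0
  have h1 := Submodule.finrank_le (LinearMap.range (Canon.HHlin k S.g 0))
  omega

/-- Sections of the middle term of a sequence with a section. -/
theorem h0_double_le {S : ShortComplex X.Modules} (hS : S.ShortExact) (hs : ∃ s : S.X₃ ⟶ S.X₂, s ≫ S.g = 𝟙 _)
    (h₂ : Module.Finite k (Coh.HH X S.X₂ 0)) :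
    Module.finrank k (Coh.HH X S.X₁ 0) + Module.finrank k (Coh.HH X S.X₃ 0) ≤
      Module.finrank k (Coh.HH X S.X₂ 0) := by
  obtain ⟨s, hs⟩ := hs
  haveI := hS.mono_f
  have hsurj : Function.Surjective (Canon.HHlin k S.g 0) := fun z =>
    ⟨Canon.HHlin k s 0 z, by rw [← hhlin_comp, hs, hhlin_id]⟩
  have h0 := LinearMap.finrank_range_add_finrank_ker (Canon.HHlin k S.g 0)
  rw [H25Par.hhlin_exact (k := k) hS, LinearMap.finrank_range_of_inj (hhlin_zero_injective (k := k) S.f),
    LinearMap.range_eq_top.2 hsurj, finrank_top] at h0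
  omega

variable [IsProper (X ↘ Spec (CommRingCat.of k))] [IsIntegral X] [Smooth (X ↘ Spec (CommRingCat.of k))]

include k in
/-- The kernel of a generating pair of sections of a line bundle is its inverse. -/
theorem exists_pencil_sequence (hdim : topologicalKrullDim X ≤ 1) {D : X.Modules} (hD : PicF.IsInvertible D)
    {s t : Γ(D, ⊤)} (ht : t ≠ 0)
    (hgen : ∀ x : X, Submodule.span (X.presheaf.stalk x)
      {D.presheaf.germ ⊤ x trivial s, D.presheaf.germ ⊤ x trivial t} = ⊤) :
    ∃ (K : X.Modules) (ι : K ⟶ Coh.structureModule X ⊞ Coh.structureModule X)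
      (q : Coh.structureModule X ⊞ Coh.structureModule X ⟶ D) (h : ι ≫ q = 0),
      PicF.IsInvertible K ∧ (ShortComplex.mk ι q h).ShortExact ∧
      Nonempty (CohB1.tensorMod K D ≅ Coh.structureModule X) := by
  haveI := isNoetherian_of_proper (k := k) (X := X)
  let O := Coh.structureModule X
  let e : Γ(O, ⊤) := (1 : Γ(X, ⊤))
  let fs := H11Tilde.homOfGlobal D s
  let ft := H11Tilde.homOfGlobal D t
  let q : O ⊞ O ⟶ D := biprod.desc fs ft
  have hl : ∀ x : X, H06Mod.stalkLin q x ((O ⊞ O).presheaf.germ ⊤ x trivial ((biprod.inl : O ⟶ O ⊞ O).app ⊤ e)) =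
      D.presheaf.germ ⊤ x trivial s := fun x => by
    rw [germ_app, ← app_comp_apply, biprod.inl_desc, homOfGlobal_app_one]
  have hr : ∀ x : X, H06Mod.stalkLin q x ((O ⊞ O).presheaf.germ ⊤ x trivial ((biprod.inr : O ⟶ O ⊞ O).app ⊤ e)) =
      D.presheaf.germ ⊤ x trivial t := fun x => by
    rw [germ_app, ← app_comp_apply, biprod.inr_desc, homOfGlobal_app_one]
  haveI : Epi q := by
    refine Preadditive.epi_of_cokernel_zero (IsZero.eq_of_tgt (H25Par.isZero_of_stalks _ fun x => ?_) _ _)
    refine H10Coh.subsingleton_stalk_cokernel q x ?_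
    show Function.Surjective (H06Mod.stalkLin q x)
    rw [← LinearMap.range_eq_top, eq_top_iff, ← hgen x, Submodule.span_le]
    rintro v (rfl | rfl)
    exacts [⟨_, hl x⟩, ⟨_, hr x⟩]
  obtain ⟨hOO, hdOO⟩ := rank_two_trivial (k := k) hdim (X := X)
  have hq : q ≠ 0 := by
    intro h0
    apply ht
    rw [← homOfGlobal_app_one D t, show H11Tilde.homOfGlobal D t = 0 from
      (biprod.inr_desc fs ft).symm.trans (by rw [show biprod.desc fs ft = 0 from h0, comp_zero])]
    rfl
  obtain ⟨a, r, hK, -, har, hr1, hr0, -, -⟩ :=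
    exists_image_data (k := k) hdim hOO (rank_one_of_isInvertible hD) q
  have := hr0 hq
  obtain rfl : a = 1 := by omega
  have hS : (ShortComplex.mk (kernel.ι q) q (kernel.condition q)).ShortExact :=
    { exact := ShortComplex.exact_kernel _ }
  have hKi : PicF.IsInvertible (kernel q) := H22Alg.KExists.isInvertible_of_rank_one hK
  have hdK : Curv2.deg k X (kernel q) 1 + Curv2.deg k X D 1 = 0 := by
    rw [← hdOO]
    exact (deg_add_of_shortExact (k := k) hS hK hOO (rank_one_of_isInvertible hD)).2.symm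
  let T := twist D
  haveI : T.IsEquivalence := H29Pairs.isEquivalence_twist hD
  haveI : T.Additive := inferInstanceAs ((DCoh.tensorBi (X := X)).flip.obj D).Additive
  have hS' := hS.map_of_exact T
  let w : Γ(T.obj (O ⊞ O), ⊤) := (T.map biprod.inl).app ⊤ (tm e t) - (T.map biprod.inr).app ⊤ (tm e s)
  have hw0 : (T.map q).app ⊤ w = 0 := by
    simp only [w, map_sub]
    rw [← app_comp_apply, ← app_comp_apply, ← T.map_comp, ← T.map_comp, biprod.inl_desc, biprod.inr_desc]
    show (LimSh.tensorModMap fs D).app ⊤ (tm e t) - (LimSh.tensorModMap ft D).app ⊤ (tm e s) = 0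
    rw [H10Coh.Tw.map_tm, H10Coh.Tw.map_tm, homOfGlobal_app_one, homOfGlobal_app_one, H28RR.tm_comm hD, sub_self]
  obtain ⟨z, hz⟩ : ∃ z : Γ(T.obj (kernel q), ⊤), (T.map (kernel.ι q)).app ⊤ z = w :=
    H10Coh.exists_app_eq_of_exact hS' ⊤ w hw0
  have hz0 : z ≠ 0 := by
    intro h0
    rw [h0, map_zero] at hz
    apply ht
    refine eq_zero_of_tm_one D t ?_
    have h := congrArg ((T.map (biprod.fst : O ⊞ O ⟶ O)).app ⊤) hz.symm
    simp only [w, map_sub] at h
    rw [← app_comp_apply, ← app_comp_apply, ← T.map_comp, ← T.map_comp, biprod.inl_fst, biprod.inr_fst,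
      T.map_id, T.map_zero] at h
    exact (sub_zero _).symm.trans (h.trans (map_zero _))
  have hT1 : PicF.IsInvertible (CohB1.tensorMod (kernel q) D) := H11Ample.isInvertible_tensor hKi hD
  have hdT : Curv2.deg k X (CohB1.tensorMod (kernel q) D) 1 = 0 := by
    rw [deg_tensor (k := k) hdim hKi hD]; exact hdK
  haveI : IsIso (H11Tilde.homOfGlobal (T.obj (kernel q)) z) :=
    (deg_le_of_ne_zero (k := k) hdim (H11Ample.isInvertible_structureModule (X := X)) hT1
      (homOfGlobal_ne_zero' hz0)).2 (by rw [deg_structureModule, hdT])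
  exact ⟨_, _, q, kernel.condition q, hKi, hS, ⟨(asIso (H11Tilde.homOfGlobal _ z)).symm⟩⟩

/-- The pencil trick: twice the sections of `L` are bounded by those of `L ⊗ D` and `L ⊗ D⁻¹`. -/
theorem pencil_trick (hdim : topologicalKrullDim X ≤ 1) {D L M : X.Modules} (hD : PicF.IsInvertible D)
    (hgg : Curv2.IsGloballyGenerated D) (h2 : Module.finrank k (Coh.HH X D 0) = 2)
    (hL : PicF.IsInvertible L) (e : CohB1.tensorMod D M ≅ L) :
    2 * Module.finrank k (Coh.HH X L 0) ≤
      Module.finrank k (Coh.HH X (CohB1.tensorMod D L) 0) + Module.finrank k (Coh.HH X M 0) := by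
  haveI := isNoetherian_of_proper (k := k) (X := X)
  haveI := finite_HH (k := k) D hD 0
  let b := Module.finBasisOfFinrankEq k (Coh.HH X D 0) h2
  have hgen : ∀ x : X, Submodule.span (X.presheaf.stalk x)
      {D.presheaf.germ ⊤ x trivial (sec D (b 0)), D.presheaf.germ ⊤ x trivial (sec D (b 1))} = ⊤ := by
    intro x
    rw [eq_top_iff, ← spansAt_of_globallyGenerated hgg x, Submodule.span_le]
    rintro _ ⟨g, rfl⟩
    obtain ⟨v, rfl⟩ := (sec D : Coh.HH X D 0 ≃+ Γ(D, ⊤)).surjective g
    rw [← b.sum_repr v, Fin.sum_univ_two, map_add, sec_smul, sec_smul]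
    dsimp only
    rw [map_add, H06Mod.germ_smul, H06Mod.germ_smul]
    exact Submodule.add_mem _ (Submodule.smul_mem _ _ (Submodule.subset_span (Or.inl rfl)))
      (Submodule.smul_mem _ _ (Submodule.subset_span (Or.inr rfl)))
  obtain ⟨K, ι, q, h, hK, hS, ⟨eK⟩⟩ := exists_pencil_sequence (k := k) hdim hD
    (fun h0 => b.ne_zero 1 ((sec D : Coh.HH X D 0 ≃+ Γ(D, ⊤)).injective (h0.trans (map_zero _).symm))) hgen
  let T := twist L
  haveI : T.IsEquivalence := H29Pairs.isEquivalence_twist hL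
  haveI : T.Additive := inferInstanceAs ((DCoh.tensorBi (X := X)).flip.obj L).Additive
  let O := Coh.structureModule X
  let u : T.obj O ≅ L := H10Coh.Tw.leftUnitIso L
  let eM : T.obj K ≅ M :=
    PicGrp.tensorModIso (Iso.refl K) e.symm ≪≫ (H10Coh.Tw.assoc K D M).symm ≪≫
      PicGrp.tensorModIso eK (Iso.refl M) ≪≫ H10Coh.Tw.leftUnitIso M
  have hS' := hS.map_of_exact T
  have hz2 : T.map (biprod.inl : O ⟶ O ⊞ O) ≫ T.map (biprod.snd : O ⊞ O ⟶ O) = 0 := by
    rw [← T.map_comp, biprod.inl_snd, T.map_zero]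
  have hOO : (ShortComplex.mk _ _ hz2).ShortExact := ShortComplex.Splitting.shortExact
    { r := T.map (biprod.fst : O ⊞ O ⟶ O)
      s := T.map (biprod.inr : O ⟶ O ⊞ O)
      f_r := by rw [← T.map_comp, biprod.inl_fst, T.map_id]
      s_g := by rw [← T.map_comp, biprod.inr_snd, T.map_id]
      id := by rw [← T.map_comp, ← T.map_comp, ← T.map_add, biprod.total, T.map_id] }
  have hfin : ∀ A : X.Modules, Coh.IsCoh A → Module.Finite k (Coh.HH X A 0) := fun A hA =>
    H10Coh.finite_HH_proper k X A hA 0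
  have hB : Coh.IsCoh (T.obj (O ⊞ O)) :=
    H10Coh.TT.isCoh_tensorMod (isCoh_of_rank (rank_two_trivial (k := k) hdim (X := X)).1)
      (H29CurveDual.isCoh_of_isInvertible hL)
  haveI := hfin _ hB
  haveI := hfin _ (H10Coh.TT.isCoh_tensorMod (H10Coh.isCoh_structureModule' X) (H29CurveDual.isCoh_of_isInvertible hL))
  haveI := hfin _ (H29CurveDual.isCoh_of_isInvertible (H11Ample.isInvertible_tensor hD hL))
  haveI := hfin _ (H29CurveDual.isCoh_of_isInvertible (H11Ample.isInvertible_tensor hK hL))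
  -- the middle term has twice the sections of `L`
  have hmid := h0_double_le (k := k) hOO
    ⟨T.map (biprod.inr : O ⟶ O ⊞ O), by rw [← T.map_comp, biprod.inr_snd, T.map_id]⟩ (hfin _ hB)
  have hseq := h0_le_add (k := k) hS' (hfin _ hB) (hfin _ (H29CurveDual.isCoh_of_isInvertible (H11Ample.isInvertible_tensor hD hL)))
  have h1 : Module.finrank k (Coh.HH X (T.obj O) 0) = Module.finrank k (Coh.HH X L 0) :=
    H29CurveDual.finrank_h0_congr u 0
  have h2' : Module.finrank k (Coh.HH X (T.obj K) 0) = Module.finrank k (Coh.HH X M 0) :=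
    H29CurveDual.finrank_h0_congr eM 0
  change Module.finrank k (Coh.HH X (T.obj O) 0) + Module.finrank k (Coh.HH X (T.obj O) 0) ≤
    Module.finrank k (Coh.HH X (T.obj (O ⊞ O)) 0) at hmid
  change Module.finrank k (Coh.HH X (T.obj (O ⊞ O)) 0) ≤
    Module.finrank k (Coh.HH X (T.obj K) 0) + Module.finrank k (Coh.HH X (T.obj D) 0) at hseq
  show _ ≤ Module.finrank k (Coh.HH X (T.obj D) 0) + _
  omega

end Groth.Agent.H29Pencil
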